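import Cfsg.Agent.Lib.BlockHeights.RankUnion
import Cfsg.Agent.Lib.BrauerPairs.DefectPairs
import Cfsg.Agent.Lib.BrauerPairs.PrincipalNilpotent
import Cfsg.Agent.Lib.BrauerPairs.Local
import Cfsg.Agent.Lib.Involutions.BrauerFowler
import Mathlib.GroupTheory.FixedPointFree

/-!
# Blocks with one character more than Brauer characters
-/

set_option autoImplicit false
set_option linter.unusedSectionVars false
set_option linter.style.haveILetI false

namespace Cfsg.Agent.Lib.OneSubsection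

open Cfsg Cfsg.Agent.Lib.Blocks Cfsg.Agent.Lib.Characters Cfsg.Agent.Lib.BrauerPairs
open Cfsg.Agent.Lib.BlockHeights

universe u

variable {G : Type u} [Group G] [Fintype G] {M : Ideal AlgInt} [hMp : M.IsPrime] {p : ℕ}
  {D : Subgroup G} {B : Set (IrrCharacter G)}

theorem exists_induced_of_mem (hM : IsPModular p M) (hB : IsPBlock M B)
    (hD : IsDefectGroup p M B D) {y : G} (hy : y ∈ D) :
    ∃ b : Set (IrrCharacter (Subgroup.centralizer ({y} : Set G))),
      IsInducedBlock M (Subgroup.centralizer ({y} : Set G)) b B := by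
  haveI := Fact.mk hM.1
  obtain ⟨e, hmax⟩ := exists_maximal_defect hM hB hD
  obtain ⟨f, -, hle⟩ := exists_subpairLE hM hmax.1.1 (Subgroup.zpowers_le.2 hy)
  have h := isInducedBlock_of_isBrauerPairOf_zpowers hM (isBrauerPairOf_of_subpairLE hM hmax hle)
  rw [← centralizer_zpowers_eq]
  exact ⟨f, h⟩

open Classical in
theorem natCard_conj (u : G) :
    (Finset.univ.filter fun y : G => IsConj u y).sum
      (fun y => Nat.card (Subgroup.centralizer ({y} : Set G))) = Nat.card G := by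
  classical
  rw [← Involutions.card_class_mul u, Finset.sum_congr rfl (g := fun _ =>
    Nat.card (Subgroup.centralizer ({u} : Set G))) fun y hy => ?_, Finset.sum_const, smul_eq_mul]
  · congr 1
    rw [Nat.card_eq_fintype_card, Fintype.card_subtype]
  · have h1 := Involutions.card_class_mul u
    have h2 := Involutions.card_class_mul y
    have huy := (Finset.mem_filter.1 hy).2
    rw [show Nat.card {z : G // IsConj y z} = Nat.card {z : G // IsConj u z} from
      Nat.card_congr (Equiv.subtypeEquivRight fun z => ⟨huy.trans, huy.symm.trans⟩)] at h2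
    exact Nat.eq_of_mul_eq_mul_left (Nat.pos_of_ne_zero fun h0 => by
      rw [h0, zero_mul] at h1; exact Nat.card_pos.ne h1) (h2.trans h1.symm)

open Classical in
/-- **One subsection.** -/
theorem subsection_count (hM : IsPModular p M) (hB : IsPBlock M B)
    (hk : Nat.card B = blockRank p B + 1) (hD : IsDefectGroup p M B D)
    {x : G} (hxD : x ∈ D) (hx : x ≠ 1) :
    (∀ z ∈ D, z ≠ 1 → IsConj z x) ∧
      ∀ b : Set (IrrCharacter (Subgroup.centralizer ({x} : Set G))),
        IsInducedBlock M (Subgroup.centralizer ({x} : Set G)) b B → blockRank p b ≤ 1 := by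
  haveI := Fact.mk hM.1
  let F : G → ℕ := fun u => ∑ᶠ γ ∈ {γ : Set (IrrCharacter (Subgroup.centralizer ({u} : Set G))) |
    IsInducedBlock M (Subgroup.centralizer ({u} : Set G)) γ B}, blockRank p γ
  let c : G → ℕ := fun u => Nat.card (Subgroup.centralizer ({u} : Set G))
  have hP := IsDefectGroup.isPGroup hD
  have hpel : ∀ z ∈ D, ∃ k : ℕ, orderOf z = p ^ k := fun z hz => by
    obtain ⟨k, hk⟩ := IsPGroup.iff_orderOf.1 hP ⟨z, hz⟩
    exact ⟨k, by rw [← Subgroup.orderOf_mk z hz, hk]⟩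
  set X := Finset.univ.filter (fun u : G => u ≠ 1 ∧ ∃ k : ℕ, orderOf u = p ^ k) with hX
  have htot : ∑ u ∈ X, c u * F u = Nat.card G := by
    have h := card_mul_sub_blockRank hM hB
    rw [hk, Nat.cast_add, Nat.cast_one, add_sub_cancel_left, mul_one] at h
    have h' : (Nat.card G : ℤ) = ((∑ u ∈ X, c u * F u : ℕ) : ℤ) := by
      rw [h, Nat.cast_sum]
      exact Finset.sum_congr rfl fun u _ => by simp only [c, F, Nat.cast_mul]
    exact_mod_cast h'.symm
  have hle : ∀ u (b : Set (IrrCharacter (Subgroup.centralizer ({u} : Set G)))),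
      IsInducedBlock M (Subgroup.centralizer ({u} : Set G)) b B → blockRank p b ≤ F u := by
    intro u b hb
    simp only [F, finsum_mem_eq_finite_toFinset_sum _ (Set.toFinite _)]
    exact Finset.single_le_sum (fun _ _ => Nat.zero_le _) ((Set.Finite.mem_toFinset _).2 hb)
  let cl : G → Finset G := fun z => Finset.univ.filter fun y => IsConj z y
  have hcl : ∀ z ∈ D, z ≠ 1 → cl z ⊆ X ∧ ∀ y ∈ cl z, 1 ≤ F y := by
    intro z hz hz1
    refine ⟨fun y hy => ?_, fun y hy => ?_⟩
    · obtain ⟨g, rfl⟩ := isConj_iff.1 (Finset.mem_filter.1 hy).2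
      refine Finset.mem_filter.2 ⟨Finset.mem_univ _, fun h => hz1 (conj_eq_one_iff.1 h), ?_⟩
      rw [← MulAut.conj_apply, MulEquiv.orderOf_eq]
      exact hpel z hz
    · obtain ⟨g, hg⟩ := isConj_iff.1 (Finset.mem_filter.1 hy).2
      obtain ⟨b, hb⟩ := exists_induced_of_mem hM hB (IsDefectGroup.map_conj hD g) (y := y) ⟨z, hz, hg⟩
      haveI := Fintype.ofFinite (Subgroup.centralizer ({y} : Set G))
      exact (blockRank_pos hM hb.1).trans_le (hle y b hb)
  have hone : ∀ z ∈ D, z ≠ 1 → Nat.card G ≤ ∑ y ∈ cl z, c y * F y := fun z hz hz1 => by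
    rw [← natCard_conj z]
    exact Finset.sum_le_sum fun y hy => Nat.le_mul_of_pos_right _ ((hcl z hz hz1).2 y hy)
  refine ⟨fun z hz hz1 => by_contra fun hne => ?_, fun b hb => by_contra fun hb2 => ?_⟩
  · have hdis : Disjoint (cl z) (cl x) := Finset.disjoint_left.2 fun y h1 h2 => hne
      ((Finset.mem_filter.1 h1).2.trans (Finset.mem_filter.1 h2).2.symm)
    have h := (Finset.sum_le_sum_of_subset
      (Finset.union_subset (hcl z hz hz1).1 (hcl x hxD hx).1)).trans htot.le
    rw [Finset.sum_union hdis] at h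
    have h1 := hone z hz hz1
    have h2 := hone x hxD hx
    have h3 : 0 < Nat.card G := Nat.card_pos
    omega
  · have h : ∑ y ∈ cl x, c y * F y ≤ Nat.card G :=
      (Finset.sum_le_sum_of_subset (hcl x hxD hx).1).trans htot.le
    have hlt : ∑ y ∈ cl x, c y < ∑ y ∈ cl x, c y * F y := by
      refine Finset.sum_lt_sum (fun y hy => Nat.le_mul_of_pos_right _ ((hcl x hxD hx).2 y hy))
        ⟨x, Finset.mem_filter.2 ⟨Finset.mem_univ _, IsConj.refl x⟩, ?_⟩
      exact lt_mul_of_one_lt_right Nat.card_pos ((not_le.1 hb2).trans_le (hle x b hb))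
    have := natCard_conj x
    simp only [cl, c] at h hlt this
    omega

/-- A regular element of a group with a normal `p`-complement lies in it. -/
theorem commute_of_complement [Fact p.Prime] (hP : HasNormalPComplement p G) {P₀ : Subgroup G}
    (hP₀ : IsPGroup p P₀) {h : G} (hreg : ¬ p ∣ orderOf h) (hn : h ∈ Subgroup.normalizer (P₀ : Set G))
    {y : G} (hy : y ∈ P₀) : h * y * h⁻¹ = y := by
  obtain ⟨P, N, hN, hc⟩ := hP
  haveI := hN
  have hidx : N.index = Nat.card (P : Subgroup G) := hc.symm.index_eq_card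
  obtain ⟨k, hk⟩ := IsPGroup.iff_card.1 P.isPGroup'
  have hhN : h ∈ N := by
    rw [← QuotientGroup.eq_one_iff, ← orderOf_eq_one_iff]
    have h1 : orderOf (h : G ⧸ N) ∣ orderOf h := orderOf_map_dvd (QuotientGroup.mk' N) h
    have h2 : orderOf (h : G ⧸ N) ∣ p ^ k := by
      rw [← hk, ← hidx]; exact orderOf_dvd_natCard _
    exact Nat.eq_one_of_dvd_coprimes
      (Nat.Coprime.pow_right k ((Fact.out : p.Prime).coprime_iff_not_dvd.2 hreg).symm) h1 h2
  have hz1 : h * y * h⁻¹ * y⁻¹ ∈ N := by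
    have := mul_mem hhN (hN.conj_mem _ (inv_mem hhN) y)
    simpa [mul_assoc] using this
  have hz2 : h * y * h⁻¹ * y⁻¹ ∈ P₀ := mul_mem ((Subgroup.mem_normalizer_iff.1 hn y).1 hy) (inv_mem hy)
  set z := h * y * h⁻¹ * y⁻¹ with hz
  have hzN : ¬ p ∣ orderOf z := by
    intro hd
    have h3 : p ∣ Nat.card N := hd.trans (Subgroup.orderOf_mk z hz1 ▸ orderOf_dvd_natCard _)
    have h4 : Nat.card N = (P : Subgroup G).index := hc.index_eq_card.symm
    exact P.not_dvd_index (h4 ▸ h3)
  obtain ⟨m, hm⟩ := IsPGroup.iff_orderOf.1 hP₀ ⟨z, hz2⟩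
  rw [Subgroup.orderOf_mk] at hm
  rcases Nat.eq_zero_or_pos m with rfl | hm0
  · rw [pow_zero, orderOf_eq_one_iff, hz, mul_inv_eq_one] at hm
    exact hm
  · exact absurd (hm ▸ dvd_pow_self p hm0.ne') hzN

theorem centralizer_principal_pComplement (hM : IsPModular p M)
    (hk : Nat.card (principalBlock M G) = blockRank p (principalBlock M G) + 1)
    (hD : IsDefectGroup p M (principalBlock M G) D) {x : G} (hxD : x ∈ D) (hx : x ≠ 1) :
    HasNormalPComplement p (Subgroup.centralizer ({x} : Set G)) := by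
  classical
  haveI := Fact.mk hM.1
  haveI := Fintype.ofFinite (Subgroup.centralizer ({x} : Set G))
  have hxp : IsPGroup p (Subgroup.zpowers x) :=
    (IsDefectGroup.isPGroup hD).to_le (Subgroup.zpowers_le.2 hxD)
  have hind : IsInducedBlock M (Subgroup.centralizer ({x} : Set G))
      (principalBlock M (Subgroup.centralizer ({x} : Set G))) (principalBlock M G) := by
    rw [← centralizer_zpowers_eq]
    exact isInducedBlock_of_isBrauerPairOf_zpowers hM (isBrauerPairOf_principal hM hxp)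
  exact (blockRank_principal_eq_one_iff hM).1 (le_antisymm
    ((subsection_count hM isPBlock_principalBlock hk hD hxD hx).2 _ hind)
    (blockRank_pos hM isPBlock_principalBlock))

/-- Defect groups of the principal block are Sylow subgroups. -/
theorem exists_sylow_eq (hM : IsPModular p M) (hD : IsDefectGroup p M (principalBlock M G) D) :
    ∃ S : Sylow p G, (S : Subgroup G) = D := by
  haveI := Fact.mk hM.1
  obtain ⟨S⟩ : Nonempty (Sylow p G) := inferInstance
  obtain ⟨S', hS'⟩ := (IsDefectGroup.isPGroup hD).exists_le_sylow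
  refine ⟨S', (Subgroup.eq_of_le_of_card_ge hS' ?_).symm⟩
  rw [IsDefectGroup.card_eq hM isPBlock_principalBlock hD, ← IsDefectGroup.card_eq hM
    isPBlock_principalBlock (isDefectGroup_of_isMaximal hM (isMaximalBrauerPair_principal hM S))]
  exact le_of_eq (Nat.card_congr (Sylow.equiv S' S).toEquiv)

/-- **The principal case.** -/
theorem commute_principal (hM : IsPModular p M) (hodd : p ≠ 2)
    (hk : Nat.card (principalBlock M G) = blockRank p (principalBlock M G) + 1)
    (hD : IsDefectGroup p M (principalBlock M G) D) (hD1 : D ≠ ⊥) :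
    ∀ a ∈ D, ∀ b ∈ D, a * b = b * a := by
  classical
  haveI := Fact.mk hM.1
  obtain ⟨S, rfl⟩ := exists_sylow_eq hM hD
  have hS := S.isPGroup'
  haveI : Nontrivial (S : Subgroup G) := (Subgroup.nontrivial_iff_ne_bot _).2 hD1
  haveI := hS.center_nontrivial
  obtain ⟨z₀, hz₀⟩ := exists_ne (1 : Subgroup.center (S : Subgroup G))
  set z := ((z₀ : (S : Subgroup G)) : G) with hzdef
  have hzS : z ∈ (S : Subgroup G) := (z₀ : (S : Subgroup G)).2
  have hz1 : z ≠ 1 := fun h => hz₀ (Subtype.ext (Subtype.ext h))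
  have hzc : ∀ y ∈ (S : Subgroup G), Commute z y := fun y hy =>
    (congrArg Subtype.val (Subgroup.mem_center_iff.1 z₀.2 ⟨y, hy⟩)).symm
  have hzC : z ∈ Subgroup.centralizer ((S : Subgroup G) : Set G) :=
    Subgroup.mem_centralizer_iff.2 fun y hy => (hzc y hy).eq.symm
  -- a regular element normalising `S` and fixing a point centralises `S`
  have key : ∀ h ∈ Subgroup.normalizer ((S : Subgroup G) : Set G), ¬ p ∣ orderOf h →
      ∀ u ∈ (S : Subgroup G), u ≠ 1 → h * u * h⁻¹ = u → ∀ y ∈ (S : Subgroup G), h * y * h⁻¹ = y := by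
    intro h hh hreg u hu hu1 hfix
    have step : ∀ v : G, v ∈ (S : Subgroup G) → v ≠ 1 → h * v * h⁻¹ = v → ∀ y ∈ (S : Subgroup G),
        Commute v y → h * y * h⁻¹ = y := by
      intro v hv hv1 hfix y hy hvy
      set C := Subgroup.centralizer ({v} : Set G) with hC
      haveI := Fintype.ofFinite C
      have hC' : ∀ g, g ∈ C ↔ g * v * g⁻¹ = v := fun g =>
        Involutions.conj_eq_self_iff_mem_centralizer.symm
      have hhC : h ∈ C := (hC' h).2 hfix
      have hyC : y ∈ C := (hC' y).2 (by rw [← hvy.eq, mul_inv_cancel_right])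
      have := commute_of_complement (centralizer_principal_pComplement hM hk hD hv hv1)
        (P₀ := ((S : Subgroup G) ⊓ C).subgroupOf C)
        ((hS.to_le inf_le_left).of_equiv (Subgroup.subgroupOfEquivOfLe inf_le_right).symm)
        (h := ⟨h, hhC⟩) (by rwa [Subgroup.orderOf_mk])
        (Fusion.mem_normalizer_of_finite fun w hw => by
          rw [Subgroup.mem_subgroupOf] at hw ⊢
          exact ⟨(Subgroup.mem_normalizer_iff.1 hh _).1 hw.1, ((⟨h, hhC⟩ : C) * w * (⟨h, hhC⟩ : C)⁻¹).2⟩)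
        (y := ⟨y, hyC⟩) ⟨hy, hyC⟩
      exact congrArg Subtype.val this
    intro y hy
    exact step z hzS hz1 (step u hu hu1 hfix z hzS (hzc u hu).symm) y hy (hzc y hy)
  -- an element inverting `z`
  have hzi : z⁻¹ ≠ z := fun h => by
    have h2 : orderOf z ∣ 2 := orderOf_dvd_of_pow_eq_one (by
      rw [sq, ← inv_inj, mul_inv_rev, h, inv_one]
      calc z * z = z⁻¹ * z := by rw [h]
        _ = 1 := inv_mul_cancel z)
    obtain ⟨k, hk⟩ := IsPGroup.iff_orderOf.1 hS (z₀ : (S : Subgroup G))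
    rw [← Subgroup.orderOf_coe, ← hzdef] at hk
    rcases Nat.eq_zero_or_pos k with rfl | hk0
    · rw [pow_zero, orderOf_eq_one_iff] at hk; exact hz1 hk
    · exact hodd (Nat.le_antisymm (Nat.le_of_dvd (by norm_num)
        ((dvd_pow_self p hk0.ne').trans (hk ▸ h2))) hM.1.two_le)
  obtain ⟨g, hg⟩ := isConj_iff.1 ((subsection_count hM isPBlock_principalBlock hk hD hzS hz1).1 z⁻¹
    (inv_mem hzS) (inv_ne_one.2 hz1))
  have hgz : g⁻¹ * z * g = z⁻¹ := by
    calc g⁻¹ * z * g = g⁻¹ * (g * z⁻¹ * g⁻¹) * g := by rw [hg]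
      _ = _ := by group
  obtain ⟨n, hn, hnz⟩ := Sylow.conj_eq_normalizer_conj_of_mem_centralizer S z g hzC (by
    rw [hgz]
    exact inv_mem hzC)
  have hninv : n * z * n⁻¹ = z⁻¹ := by
    have h1 : n⁻¹ * z * n = z⁻¹ := hnz.symm.trans hgz
    calc n * z * n⁻¹ = n * (n⁻¹ * z * n)⁻¹ * n⁻¹ := by rw [h1, inv_inv]
      _ = z⁻¹ := by group
  obtain ⟨i, m, hm2, ho⟩ := Nat.exists_eq_two_pow_mul_odd (n := orderOf n) (orderOf_pos n).ne'
  set h := n ^ m with hh
  have hhN : h ∈ Subgroup.normalizer ((S : Subgroup G) : Set G) := pow_mem hn m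
  have hinv : ∀ j : ℕ, n ^ j * z * (n ^ j)⁻¹ = if Even j then z else z⁻¹ := by
    intro j
    induction j with
    | zero => simp
    | succ j ih =>
      rw [pow_succ', show n * n ^ j * z * (n * n ^ j)⁻¹ = n * (n ^ j * z * (n ^ j)⁻¹) * n⁻¹ by group,
        ih]
      by_cases hj : Even j
      · rw [if_pos hj, if_neg (by simp [Nat.even_add_one, hj]), hninv]
      · rw [if_neg hj, if_pos (by simp [Nat.even_add_one, hj]), ← conj_inv, hninv, inv_inv]
  have hhz : h * z * h⁻¹ = z⁻¹ := by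
    rw [hh, hinv m, if_neg (Nat.not_even_iff_odd.2 hm2)]
  have hreg2 : ∀ j : ℕ, ¬ p ∣ orderOf (h ^ j) := by
    intro j hd
    have h1 : h ^ 2 ^ i = 1 := by
      rw [hh, ← pow_mul, mul_comm m, ← ho, pow_orderOf_eq_one]
    have h3 := hM.1.dvd_of_dvd_pow (hd.trans ((orderOf_pow_dvd j).trans
      (orderOf_dvd_of_pow_eq_one h1)))
    exact hodd ((Nat.prime_dvd_prime_iff_eq hM.1 Nat.prime_two).1 h3)
  have hfix : ∀ u ∈ (S : Subgroup G), h * u * h⁻¹ = u → u = 1 := fun u hu hfu => by_contra fun hu1 => by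
    have := key h hhN (by simpa using hreg2 1) u hu hu1 hfu z hzS
    rw [hhz] at this
    exact hzi this
  have hsq : ∀ y ∈ (S : Subgroup G), h ^ 2 * y * (h ^ 2)⁻¹ = y := by
    refine key _ (pow_mem hhN 2) (hreg2 2) z hzS hz1 ?_
    rw [sq, show h * h * z * (h * h)⁻¹ = h * (h * z * h⁻¹) * h⁻¹ by group, hhz, ← conj_inv, hhz,
      inv_inv]
  let φ : (S : Subgroup G) →* (S : Subgroup G) :=
    { toFun := fun y => ⟨h * y * h⁻¹, (Subgroup.mem_normalizer_iff.1 hhN y).1 y.2⟩
      map_one' := Subtype.ext (by simp)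
      map_mul' := fun a b => Subtype.ext (by simp [mul_assoc]) }
  have hcomm := MonoidHom.FixedPointFree.commute_all_of_involutive (φ := φ)
    (fun y hy => Subtype.ext (hfix y y.2 (congrArg Subtype.val hy)))
    (fun y => Subtype.ext (by
      show h * (h * (y : G) * h⁻¹) * h⁻¹ = y
      have := hsq y y.2
      rw [sq] at this
      calc _ = h * h * (y : G) * (h * h)⁻¹ := by group
        _ = _ := this))
  exact fun a ha b hb => congrArg Subtype.val (hcomm ⟨a, ha⟩ ⟨b, hb⟩).eq

/-- **The `p`-solvable case.** -/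
theorem commute_pSolvable [Fact p.Prime] (hsolv : IsPSolvable p G) (hP : IsPGroup p D) (hD1 : D ≠ ⊥)
    (hconj : ∀ a ∈ D, a ≠ 1 → ∀ b ∈ D, b ≠ 1 → IsConj a b) :
    ∀ a ∈ D, ∀ b ∈ D, a * b = b * a := by
  classical
  have hall : ∀ L : Subgroup G, L.Normal → D ⊓ L ≠ ⊥ → D ≤ L := by
    intro L hL hne b hb
    obtain ⟨⟨a, ha⟩, ha1⟩ := Subgroup.ne_bot_iff_exists_ne_one.1 hne
    by_cases hb1 : b = 1
    · exact hb1 ▸ one_mem L
    · obtain ⟨c, hc⟩ := isConj_iff.1 (hconj a ha.1 (fun h => ha1 (Subtype.ext h)) b hb hb1)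
      exact hc ▸ hL.conj_mem a ha.2 c
  obtain ⟨n, H, h0, hlast, hmono, hnor, hstep⟩ := hsolv
  obtain ⟨i, hi1, hi2⟩ : ∃ i : Fin n, D ⊓ H i.castSucc = ⊥ ∧ D ⊓ H i.succ ≠ ⊥ := by
    by_contra hcon
    simp only [not_exists, not_and, not_not] at hcon
    have : ∀ j : Fin (n + 1), D ⊓ H j = ⊥ := fun j => by
      induction j using Fin.induction with
      | zero => rw [h0, inf_bot_eq]
      | succ j ih => exact hcon j ih
    have h := this (Fin.last n)
    rw [hlast, inf_top_eq] at h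
    exact hD1 h
  set U := H i.succ
  haveI := hnor i.succ
  have hDU : D ≤ U := hall U (hnor _) hi2
  haveI : Nonempty {L : Subgroup G // L.Normal ∧ H i.castSucc ≤ L ∧ L ≤ U ∧ D ⊓ L = ⊥} :=
    ⟨⟨_, hnor _, le_rfl, hmono (Fin.castSucc_le_succ i), hi1⟩⟩
  obtain ⟨⟨L, hLn, hHL, hLU, hDL⟩, hLmax⟩ := Finite.exists_max
    (fun L : {L : Subgroup G // L.Normal ∧ H i.castSucc ≤ L ∧ L ≤ U ∧ D ⊓ L = ⊥} => Nat.card L.1)
  haveI := hLn
  -- the section is a `p`-group
  obtain ⟨m, hm⟩ : ∃ m : ℕ, L.relIndex U = p ^ m := by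
    rcases hstep i with ⟨m, hm⟩ | hcop
    · obtain ⟨j, -, hj⟩ := (Nat.dvd_prime_pow (Fact.out : p.Prime)).1
        (hm ▸ Subgroup.relIndex_dvd_of_le_left U hHL)
      exact ⟨j, hj⟩
    · exfalso
      obtain ⟨⟨a, ha⟩, ha1⟩ := Subgroup.ne_bot_iff_exists_ne_one.1 hD1
      have hcopL : (L.relIndex U).Coprime p := hcop.coprime_dvd_left
        (Subgroup.relIndex_dvd_of_le_left U hHL)
      obtain ⟨k, hk⟩ := IsPGroup.iff_orderOf.1 hP ⟨a, ha⟩
      rw [Subgroup.orderOf_mk] at hk
      haveI : (L.subgroupOf U).Normal := inferInstance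
      have h1 : orderOf ((⟨a, hDU ha⟩ : U) : U ⧸ L.subgroupOf U) ∣ L.relIndex U :=
        orderOf_dvd_natCard _
      have h2 : orderOf ((⟨a, hDU ha⟩ : U) : U ⧸ L.subgroupOf U) ∣ p ^ k := by
        rw [← hk, ← Subgroup.orderOf_mk a (hDU ha)]
        exact orderOf_map_dvd (QuotientGroup.mk' (L.subgroupOf U)) _
      have h3 := Nat.eq_one_of_dvd_coprimes (hcopL.pow_right k) h1 h2
      rw [orderOf_eq_one_iff, QuotientGroup.eq_one_iff, Subgroup.mem_subgroupOf] at h3
      exact ha1 (Subtype.ext (Subgroup.mem_bot.1 (hDL.le ⟨ha, h3⟩)))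
  have hW : IsPGroup p (U.map (QuotientGroup.mk' L)) := IsPGroup.of_card (n := m) (by
    rw [← hm, ← Subgroup.relIndex_ker (f := QuotientGroup.mk' L), QuotientGroup.ker_mk'])
  set W := U.map (QuotientGroup.mk' L) with hWdef
  haveI : W.Normal := Subgroup.Normal.map inferInstance _ (QuotientGroup.mk'_surjective L)
  set Z := (Subgroup.center W).map W.subtype with hZdef
  have hZW : Z ≤ W := Subgroup.map_subtype_le _
  haveI : Z.Normal := by
    rw [hZdef]
    exact ConjAct.normal_of_characteristic_of_normal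
  set V := Z.comap (QuotientGroup.mk' L) with hVdef
  have hLV : L ≤ V := fun l hl => by
    show QuotientGroup.mk' L l ∈ Z
    rw [show QuotientGroup.mk' L l = 1 from (QuotientGroup.eq_one_iff l).2 hl]; exact one_mem Z
  have hVU : V ≤ U := fun v hv => by
    obtain ⟨w, hw, hwv⟩ := hZW hv
    have : w⁻¹ * v ∈ L := QuotientGroup.eq.1 hwv
    have := mul_mem hw (hLU this)
    rwa [mul_inv_cancel_left] at this
  have hDV : D ≤ V := by
    refine hall V inferInstance fun hbot => ?_
    have h := hLmax ⟨V, inferInstance, hHL.trans hLV, hVU, hbot⟩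
    have hVL : V = L := (Subgroup.eq_of_le_of_card_ge hLV h).symm
    have hW1 : Nontrivial W := by
      rw [Subgroup.nontrivial_iff_ne_bot]
      intro hb
      obtain ⟨⟨a, ha⟩, ha1⟩ := Subgroup.ne_bot_iff_exists_ne_one.1 hD1
      have : QuotientGroup.mk' L a ∈ W := ⟨a, hDU ha, rfl⟩
      rw [hb, Subgroup.mem_bot] at this
      exact ha1 (Subtype.ext (Subgroup.mem_bot.1 (hDL.le ⟨ha, (QuotientGroup.eq_one_iff a).1 this⟩)))
    haveI := hW.center_nontrivial
    obtain ⟨c, hc⟩ := exists_ne (1 : Subgroup.center W)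
    obtain ⟨v, hv⟩ := QuotientGroup.mk'_surjective L ((c : W) : G ⧸ L)
    have hvV : v ∈ V := show QuotientGroup.mk' L v ∈ Z from hv ▸ ⟨c, c.2, rfl⟩
    rw [hVL] at hvV
    exact hc (Subtype.ext (Subtype.ext (hv.symm.trans ((QuotientGroup.eq_one_iff v).2 hvV))))
  intro a ha b hb
  obtain ⟨a', ha', hae⟩ := hDV ha
  have hbW : QuotientGroup.mk' L b ∈ W := ⟨b, hDU hb, rfl⟩
  have h1 : QuotientGroup.mk' L (a * b) = QuotientGroup.mk' L (b * a) := by
    rw [map_mul, map_mul, ← hae]
    exact congrArg Subtype.val (Subgroup.mem_center_iff.1 ha' ⟨_, hbW⟩).symm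
  have h2 : (b * a)⁻¹ * (a * b) ∈ D ⊓ L := Subgroup.mem_inf.2 ⟨D.mul_mem (D.inv_mem (D.mul_mem hb ha)) (D.mul_mem ha hb),
    QuotientGroup.eq.1 h1.symm⟩
  rw [hDL, Subgroup.mem_bot, inv_mul_eq_one] at h2
  exact h2.symm

/-- **The theorem.** -/
theorem isElementaryAbelian_defect (hM : IsPModular p M) (hB : IsPBlock M B)
    (hk : Nat.card B = blockRank p B + 1) (hD : IsDefectGroup p M B D)
    (hB0 : B = principalBlock M G ∨ IsPSolvable p G) : IsElementaryAbelian p D := by
  classical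
  haveI := Fact.mk hM.1
  have hP := IsDefectGroup.isPGroup hD
  by_cases hD1 : D = ⊥
  · subst hD1
    exact ⟨⟨⟨fun a b => Subsingleton.elim _ _⟩⟩, fun a ha => by rw [Subgroup.mem_bot.1 ha, one_pow]⟩
  haveI : Nontrivial D := (Subgroup.nontrivial_iff_ne_bot D).2 hD1
  obtain ⟨e, he⟩ : ∃ e : D, orderOf e = p := by
    obtain ⟨k, hcard⟩ := IsPGroup.iff_card.1 hP
    have hk0 : k ≠ 0 := fun h => by
      rw [h, pow_zero] at hcard; exact hD1 (Subgroup.eq_bot_of_card_eq D hcard)
    exact exists_prime_orderOf_dvd_card' p (hcard ▸ dvd_pow_self p hk0)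
  have he1 : (e : G) ≠ 1 := fun h => hM.1.ne_one (by
    rw [← he, ← Subgroup.orderOf_coe, h, orderOf_one])
  have hcls : ∀ z ∈ D, z ≠ 1 → IsConj z (e : G) := fun z hz hz1 =>
    (subsection_count hM hB hk hD e.2 he1).1 z hz hz1
  have hexp : ∀ a ∈ D, a ^ p = 1 := fun a ha => by
    by_cases ha1 : a = 1
    · rw [ha1, one_pow]
    · obtain ⟨c, hc⟩ := isConj_iff.1 (hcls a ha ha1).symm
      rw [← hc, conj_pow, show (e : G) ^ p = 1 by rw [← he, ← Subgroup.orderOf_coe, pow_orderOf_eq_one]]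
      group
  refine ⟨⟨⟨fun a b => Subtype.ext ?_⟩⟩, hexp⟩
  show (a : G) * b = b * a
  by_cases hodd : p = 2
  · subst hodd
    have hinv : ∀ x ∈ D, x⁻¹ = x := fun x hx => inv_eq_of_mul_eq_one_right (by
      rw [← sq]; exact hexp x hx)
    rw [← hinv _ (mul_mem a.2 b.2), mul_inv_rev, hinv _ a.2, hinv _ b.2]
  rcases hB0 with rfl | hsolv
  · exact commute_principal hM hodd hk hD hD1 _ a.2 _ b.2
  · exact commute_pSolvable hsolv hP hD1
      (fun a ha ha1 b hb hb1 => (hcls a ha ha1).trans (hcls b hb hb1).symm) _ a.2 _ b.2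

end Cfsg.Agent.Lib.OneSubsection
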